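import Groth.Agent.SplitRegLib.Local
import Groth.Agent.S8919
import Groth.Agent.FittLib.Generated

/-!
# Permanence of regularity from a split conormal sequence
-/

set_option autoImplicit false

noncomputable section

universe u

open CategoryTheory CategoryTheory.Limits AlgebraicGeometry TopologicalSpace TensorProduct
open Groth.Agent

namespace SplitRegLib

/-- A retraction over an open gives a linear retraction on its smaller opens. -/
theorem exists_linear_retraction {Z : Scheme.{u}} {M N : Z.Modules} (a : M ⟶ N) (U : Z.Opens)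
    (ρ : (Scheme.Modules.restrictFunctor U.ι).obj N ⟶ (Scheme.Modules.restrictFunctor U.ι).obj M)
    (h : (Scheme.Modules.restrictFunctor U.ι).map a ≫ ρ = 𝟙 _) {Ω : Z.Opens} (hΩ : Ω ≤ U) :
    ∃ r : Γ(N, Ω) →+ Γ(M, Ω), (∀ (c : Γ(Z, Ω)) (t : Γ(N, Ω)), r (c • t) = c • r t) ∧ ∀ t, r (a.app Ω t) = t := by
  obtain ⟨V', rfl⟩ : ∃ V' : (U : Scheme.{u}).Opens, U.ι ''ᵁ V' = Ω :=
    ⟨U.ι ⁻¹ᵁ Ω, by rw [Scheme.Hom.image_preimage_eq_opensRange_inf, Scheme.Opens.opensRange_ι, inf_eq_right.2 hΩ]⟩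
  refine ⟨(ρ.app V').hom, fun c t => ?_, fun t => ?_⟩
  · refine (congrArg (ρ.app V').hom (FittLib.smul_restrict N U V' c t).symm).trans ?_
    exact (Scheme.Modules.Hom.app_smul ρ (U := V') _ _).trans (FittLib.smul_restrict M U V' c _)
  · have h1 := congrArg (fun m => (Scheme.Modules.Hom.app m V').hom t) h
    exact h1

theorem appLE_eq {Z Y : Scheme.{u}} (i : Z ⟶ Y) (V : Y.Opens) : i.appLE V (i ⁻¹ᵁ V) le_rfl = i.app V :=
  (Scheme.Hom.app_eq_appLE i).symm

/-- The intersection condition of a chart, from a retraction of the first conormal map. -/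
theorem inter_of_retraction {Z Y X : Scheme.{u}} (i : Z ⟶ Y) (j : Y ⟶ X) [IsImmersion i] [IsImmersion j]
    [QuasiCompact i] [QuasiCompact j]
    {a : (Scheme.Modules.pullback i).obj (Omega.conormal j) ⟶ Omega.conormal (i ≫ j)}
    (ha : OmegaSh.IsConormalMap (i ≫ j) j (𝟙 X) i a) {W : X.Opens} (hW : IsAffineOpen W)
    (hWc : W ≤ (i ≫ j).coborderRange) (hWj : W ≤ j.coborderRange) (U : Z.Opens)
    (ρ : (Scheme.Modules.restrictFunctor U.ι).obj (Omega.conormal (i ≫ j)) ⟶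
      (Scheme.Modules.restrictFunctor U.ι).obj ((Scheme.Modules.pullback i).obj (Omega.conormal j)))
    (hρ : (Scheme.Modules.restrictFunctor U.ι).map a ≫ ρ = 𝟙 _) (hU : (i ≫ j) ⁻¹ᵁ W ≤ U)
    (P : Ideal Γ(X, W)) (hP : RingHom.ker ((i ≫ j).app W).hom ≤ P) :
    ∀ x ∈ RingHom.ker (j.app W).hom, x ∈ P * RingHom.ker ((i ≫ j).app W).hom →
      x ∈ P * RingHom.ker (j.app W).hom := by
  obtain ⟨hUY, hsj⟩ := ConormalInjLib.chart_of_le j hW hWj
  obtain ⟨hUZ, hsij⟩ := ConormalInjLib.chart_of_le (i ≫ j) hW hWc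
  have hcomp : (i ≫ j).app W = j.app W ≫ i.app (j ⁻¹ᵁ W) := Scheme.Hom.comp_app i j W
  have hsi : Function.Surjective (i.app (j ⁻¹ᵁ W)) := by
    have h := hsij
    rw [hcomp] at h
    exact Function.Surjective.of_comp h
  haveI : Coh.IsQCoh (ClSub.idealMod j.ker) := SweepSix.ConormalSpec.isQCoh_idealMod _
  haveI : Coh.IsQCoh (Omega.conormal j) := KFlatLib.isQCoh_pullback j (ClSub.idealMod j.ker)
  let Ω : Z.Opens := i ⁻¹ᵁ (j ⁻¹ᵁ W)
  have hUZ' : IsAffineOpen Ω := hUZ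
  obtain ⟨r, hr, hra⟩ := exists_linear_retraction a U ρ hρ (Ω := Ω) hU
  let J := RingHom.ker (j.app W).hom
  let I := RingHom.ker ((i ≫ j).app W).hom
  let gen : Γ(ClSub.idealMod j.ker, W) →+ Γ(KFlatLib.pb i (Omega.conormal j), Ω) :=
    (KFlatLib.puSecLE i (Omega.conormal j) le_rfl).comp (OmegaSh.conormalSect j W).hom
  have hgsmul : ∀ q s, gen (q • s) = i.app (j ⁻¹ᵁ W) (j.app W q) • gen s := fun q s => by
    refine (congrArg (KFlatLib.puSecLE i (Omega.conormal j) le_rfl) (OmegaSh.pullSect_smul j _ W q s)).trans ?_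
    refine (KFlatLib.puSecLE_smul i _ _ _ _).trans ?_
    rw [appLE_eq]
    rfl
  have hga : ∀ (s : Γ(ClSub.idealMod j.ker, W)) (h : (i ≫ j).app W (OmegaSh.idealSect j.ker W s) = 0),
      a.app Ω (gen s) = OmegaSh.conormalSect (i ≫ j) W (ConormalSecLib.lift (i ≫ j) W _ h) := fun s h => by
    have h1 := ha.2 W s (ConormalSecLib.lift (i ≫ j) W _ h) (ConormalSecLib.idealSect_lift (i ≫ j) W _ h)
      Ω le_rfl le_rfl
    have h3 : gen s = OmegaSh.pullSect i (Omega.conormal j) (j ⁻¹ᵁ W) (OmegaSh.conormalSect j W s) := by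
      show KFlatLib.puSecLE i (Omega.conormal j) (le_refl Ω) (OmegaSh.conormalSect j W s) = _
      rw [KFlatLib.puSecLE_apply]
      exact ConormalSeqLib.hidM _ _
    refine (congrArg (a.app Ω) h3).trans ?_
    exact (ConormalSeqLib.hidM _ _).symm.trans (h1.trans (ConormalSeqLib.hidM _ _))
  have hker : ∀ s, gen s = 0 → OmegaSh.idealSect j.ker W s ∈ I * J := by
    intro s hs
    letI := (i.appLE (j ⁻¹ᵁ W) Ω le_rfl).hom.toAlgebra
    letI : Module Γ(Y, j ⁻¹ᵁ W) Γ(KFlatLib.pb i (Omega.conormal j), Ω) :=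
      Module.compHom _ (i.appLE (j ⁻¹ᵁ W) Ω le_rfl).hom
    haveI : IsScalarTower Γ(Y, j ⁻¹ᵁ W) Γ(Z, Ω) Γ(KFlatLib.pb i (Omega.conormal j), Ω) :=
      IsScalarTower.of_algebraMap_smul fun _ _ => rfl
    let θ : Γ(Omega.conormal j, j ⁻¹ᵁ W) →ₗ[Γ(Y, j ⁻¹ᵁ W)] Γ(KFlatLib.pb i (Omega.conormal j), Ω) :=
      { toFun := KFlatLib.puSecLE i (Omega.conormal j) le_rfl
        map_add' := map_add _
        map_smul' := fun r m => KFlatLib.puSecLE_smul i (Omega.conormal j) le_rfl r m }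
    have hθ : IsBaseChange Γ(Z, Ω) θ :=
      KFlatLib.isBaseChange_puSec i (Omega.conormal j) hUY hUZ' le_rfl (fun _ => rfl) θ fun _ => rfl
    have h1 : (1 : Γ(Z, Ω)) ⊗ₜ[Γ(Y, j ⁻¹ᵁ W)] OmegaSh.conormalSect j W s = 0 := by
      apply hθ.equiv.injective
      rw [IsBaseChange.equiv_tmul, one_smul, map_zero]
      exact hs
    have hsurj : Function.Surjective (algebraMap Γ(Y, j ⁻¹ᵁ W) Γ(Z, Ω)) := by
      show Function.Surjective (i.appLE (j ⁻¹ᵁ W) Ω le_rfl).hom
      rw [appLE_eq]; exact hsi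
    have h2 := ConormalInjLib.mem_smul_top_of_tmul_eq_zero (B := Γ(Y, j ⁻¹ᵁ W)) (C := Γ(Z, Ω))
      (Q := Γ(Omega.conormal j, j ⁻¹ᵁ W)) hsurj h1
    obtain ⟨s₁, hs₁, hs₁'⟩ : ∃ s₁, OmegaSh.idealSect j.ker W s₁ ∈ I * J ∧
        OmegaSh.conormalSect j W s₁ = OmegaSh.conormalSect j W s := by
      refine Submodule.smul_induction_on h2 (fun b hb m _ => ?_) (fun m m' ⟨s₁, h, h'⟩ ⟨s₂, k, k'⟩ => ?_)
      · obtain ⟨q, rfl⟩ := hsj b
        obtain ⟨t, rfl⟩ := S8919.exists_conormalSect_eq j hW hWj m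
        refine ⟨q • t, ?_, OmegaSh.pullSect_smul j _ W q t⟩
        rw [ConormalSecLib.idealSect_smul]
        refine Ideal.mul_mem_mul ?_ (ConormalSecLib.app_idealSect j W t)
        have hb' : (i.appLE (j ⁻¹ᵁ W) Ω le_rfl).hom (j.app W q) = 0 := hb
        rw [appLE_eq] at hb'
        show (i ≫ j).app W q = 0
        rw [hcomp]; exact hb'
      · exact ⟨s₁ + s₂, by rw [map_add]; exact add_mem h k, by rw [map_add, h', k']⟩
    have h3 := ConormalInjLib.mem_ker_sq_of_conormalSect_eq_zero j hW hWj (s - s₁)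
      (by rw [map_sub, hs₁', sub_self])
    rw [map_sub] at h3
    have hJI : J ≤ I := fun y hy => by
      show (i ≫ j).app W y = 0
      rw [hcomp]
      show i.app (j ⁻¹ᵁ W) (j.app W y) = 0
      rw [RingHom.mem_ker.1 hy, map_zero]
    have h4 := add_mem (show _ ∈ I * J from Ideal.mul_mono_left hJI (pow_two J ▸ h3)) hs₁
    rwa [sub_add_cancel] at h4
  intro x hx hx'
  have hx₀ : (i ≫ j).app W x = 0 := by
    rw [hcomp]
    show i.app (j ⁻¹ᵁ W) (j.app W x) = 0
    rw [RingHom.mem_ker.1 hx, map_zero]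
  have hgensurj : ∀ t, ∃ s, gen s = t := fun t => by
    obtain ⟨m, rfl⟩ := S8919.exists_puSecLE_eq i (Omega.conormal j) hUY hUZ' le_rfl
      (by rw [appLE_eq]; exact hsi) t
    obtain ⟨s, rfl⟩ := S8919.exists_conormalSect_eq j hW hWj m
    exact ⟨s, rfl⟩
  obtain ⟨s₁, hs₁, y, hy, hy'⟩ : ∃ s₁, OmegaSh.idealSect j.ker W s₁ ∈ P * J ∧ ∃ y : Γ(ClSub.idealMod (i ≫ j).ker, W),
      OmegaSh.idealSect (i ≫ j).ker W y = x ∧ r (OmegaSh.conormalSect (i ≫ j) W y) = gen s₁ := by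
    refine Submodule.mul_induction_on hx' (fun q hq y hy => ?_)
      (fun u v ⟨s₁, h, y, e, e'⟩ ⟨s₂, k, y', k', k''⟩ => ?_)
    · let y' := ConormalSecLib.lift (i ≫ j) W y hy
      obtain ⟨t, ht⟩ := hgensurj (r (OmegaSh.conormalSect (i ≫ j) W y'))
      refine ⟨q • t, ?_, q • y', ?_, ?_⟩
      · rw [ConormalSecLib.idealSect_smul]; exact Ideal.mul_mem_mul hq (ConormalSecLib.app_idealSect j W t)
      · exact (ConormalSecLib.idealSect_smul (i ≫ j) W q y').trans
          (congrArg (q * ·) (ConormalSecLib.idealSect_lift (i ≫ j) W y hy))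
      · rw [hgsmul, ht]
        refine (congrArg r (OmegaSh.pullSect_smul (i ≫ j) _ W q y')).trans ((hr _ _).trans ?_)
        rw [hcomp]
        rfl
    · exact ⟨s₁ + s₂, by rw [map_add]; exact add_mem h k, y + y', by rw [map_add, e, k'],
        (congrArg r (map_add (OmegaSh.conormalSect (i ≫ j) W).hom y y')).trans ((map_add r _ _).trans
          (by rw [e', k'', map_add]))⟩
  let s := ConormalSecLib.lift j W x hx
  have hss : OmegaSh.idealSect j.ker W s = x := ConormalSecLib.idealSect_lift j W x hx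
  have hs : (i ≫ j).app W (OmegaSh.idealSect j.ker W s) = 0 := by rw [hss]; exact hx₀
  have h5 : gen s = gen s₁ := by
    rw [← hy', ← hra (gen s), hga s hs]
    refine congrArg (fun z => r (OmegaSh.conormalSect (i ≫ j) W z)) (ConormalSecLib.idealSect_injective (i ≫ j) W ?_)
    rw [hy]
    exact (ConormalSecLib.idealSect_lift (i ≫ j) W _ hs).trans hss
  have h6 := hker (s - s₁) (by rw [map_sub, h5, sub_self])
  rw [map_sub, hss] at h6
  have h7 := add_mem (show _ ∈ P * J from Ideal.mul_mono_left hP h6) hs₁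
  rwa [sub_add_cancel] at h7

/-- Regularity at a point passes to the first immersion across a split first conormal map. -/
theorem regularAt_of_retraction {Z Y X : Scheme.{u}} (i : Z ⟶ Y) (j : Y ⟶ X) [IsImmersion i] [IsImmersion j]
    [QuasiCompact i] [QuasiCompact j]
    {a : (Scheme.Modules.pullback i).obj (Omega.conormal j) ⟶ Omega.conormal (i ≫ j)}
    (ha : OmegaSh.IsConormalMap (i ≫ j) j (𝟙 X) i a)
    (z : Z) (hsplit : ∃ (U : Z.Opens) (ρ : (Scheme.Modules.restrictFunctor U.ι).obj (Omega.conormal (i ≫ j)) ⟶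
      (Scheme.Modules.restrictFunctor U.ι).obj ((Scheme.Modules.pullback i).obj (Omega.conormal j))),
      z ∈ U ∧ (Scheme.Modules.restrictFunctor U.ι).map a ≫ ρ = 𝟙 _)
    {k : RegImm.Kind} (hk : k ≠ .regular)
    (hJfg : ∀ W : X.Opens, IsAffineOpen W → IsAffineOpen (j ⁻¹ᵁ W) → Function.Surjective (j.app W) →
      (RingHom.ker (j.app W).hom).FG)
    (O₁ : X.Opens) (hzO₁ : (i ≫ j) z ∈ O₁)
    (hij : ∀ W : X.Opens, IsAffineOpen W → W ≤ O₁ → W ≤ (i ≫ j).coborderRange → W ≤ j.coborderRange →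
      RegImmKindLib.LocK k (RingHom.ker ((i ≫ j).app W).hom))
    (hj : k = .koszul → ∀ W : X.Opens, IsAffineOpen W → W ≤ O₁ → W ≤ j.coborderRange →
      RegImmKindLib.LocK .koszul (RingHom.ker (j.app W).hom)) :
    RegImm.IsRegularImmersionAt k i z := by
  obtain ⟨U, ρ, hzU, hρ⟩ := hsplit
  obtain ⟨O, hO, hOU⟩ := (i ≫ j).isEmbedding.isInducing.isOpen_iff.1 U.2
  have hzO : (i ≫ j) z ∈ ((⟨O, hO⟩ : X.Opens) ⊓ O₁) ⊓ j.coborderRange :=
    ⟨⟨hOU.symm.subset hzU, hzO₁⟩, subset_coborder ⟨i z, rfl⟩⟩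
  obtain ⟨W, hW, hzW, hWO, hWc⟩ := ConormalInjLib.exists_chart (i ≫ j) z _ hzO
  have hWj : W ≤ j.coborderRange := hWO.trans inf_le_right
  have hWU : (i ≫ j) ⁻¹ᵁ W ≤ U := fun y hy => hOU.subset (hWO hy).1.1
  obtain ⟨hUY, hsj⟩ := ConormalInjLib.chart_of_le j hW hWj
  obtain ⟨hUZ, hsij⟩ := ConormalInjLib.chart_of_le (i ≫ j) hW hWc
  have hcomp : (i ≫ j).app W = j.app W ≫ i.app (j ⁻¹ᵁ W) := Scheme.Hom.comp_app i j W
  have hsi : Function.Surjective (i.app (j ⁻¹ᵁ W)) := by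
    have h := hsij
    rw [hcomp] at h
    exact Function.Surjective.of_comp h
  refine RegImmKindLib.isRegularImmersionAt_of_locK hk hUY hUZ hsi ?_ z hzW
  intro Q hQ hle
  have hker : RingHom.ker ((i ≫ j).app W).hom = (RingHom.ker (i.app (j ⁻¹ᵁ W)).hom).comap (j.app W).hom := by
    rw [hcomp, RingHom.comap_ker]; rfl
  have hJI : RingHom.ker (j.app W).hom ≤ RingHom.ker ((i ≫ j).app W).hom := by
    rw [hker]
    exact Ideal.comap_mono bot_le
  haveI := hQ
  have hIP : RingHom.ker ((i ≫ j).app W).hom ≤ Q.comap (j.app W).hom := by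
    rw [hker]; exact Ideal.comap_mono hle
  obtain ⟨h, hh, hgen⟩ := exists_away hk (j.app W).hom hsj (Q.comap (j.app W).hom) _ hJI hIP (hJfg W hW hUY hsj)
    (hij W hW (fun x hx => (hWO hx).1.2) hWc hWj)
    (fun h => hj h W hW (fun x hx => (hWO hx).1.2) hWj)
    (inter_of_retraction i j ha hW hWc hWj U ρ hρ hWU _ hIP)
  refine ⟨(j.app W).hom h, hh, ?_⟩
  rwa [hker, Ideal.map_comap_of_surjective _ hsj] at hgen

/-- Regularity passes to the first immersion when the first conormal map is locally a split injection. -/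
theorem regular_of_retraction {Z Y X : Scheme.{u}} (i : Z ⟶ Y) (j : Y ⟶ X) [IsImmersion i] [IsImmersion j]
    [QuasiCompact i] [QuasiCompact j]
    {a : (Scheme.Modules.pullback i).obj (Omega.conormal j) ⟶ Omega.conormal (i ≫ j)}
    (ha : OmegaSh.IsConormalMap (i ≫ j) j (𝟙 X) i a)
    (hsplit : ∀ z : Z, ∃ (U : Z.Opens) (ρ : (Scheme.Modules.restrictFunctor U.ι).obj (Omega.conormal (i ≫ j)) ⟶
      (Scheme.Modules.restrictFunctor U.ι).obj ((Scheme.Modules.pullback i).obj (Omega.conormal j))),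
      z ∈ U ∧ (Scheme.Modules.restrictFunctor U.ι).map a ≫ ρ = 𝟙 _)
    {k : RegImm.Kind} (hk : k ≠ .regular)
    (hJfg : ∀ W : X.Opens, IsAffineOpen W → IsAffineOpen (j ⁻¹ᵁ W) → Function.Surjective (j.app W) →
      (RingHom.ker (j.app W).hom).FG)
    (hij : RegImm.IsRegularImmersion k (i ≫ j)) (hj : k = .koszul → RegImm.IsRegularImmersion .koszul j) :
    RegImm.IsRegularImmersion k i :=
  ⟨inferInstance, fun z => regularAt_of_retraction i j ha z (hsplit z) hk hJfg ⊤ trivial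
    (fun W hW _ hWc _ => RegImmKindLib.locK_ker_of_forall hk hij.2 hW (ConormalInjLib.chart_of_le (i ≫ j) hW hWc).1
      (ConormalInjLib.chart_of_le (i ≫ j) hW hWc).2)
    (fun h W hW _ hWj => RegImmKindLib.locK_ker_of_forall (by decide) (hj h).2 hW
      (ConormalInjLib.chart_of_le j hW hWj).1 (ConormalInjLib.chart_of_le j hW hWj).2)⟩

/-- A finitely presented surjection has finitely generated kernel. -/
theorem ker_fg_of_lfp {Y X : Scheme.{u}} (j : Y ⟶ X) [LocallyOfFinitePresentation j] (W : X.Opens)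
    (hW : IsAffineOpen W) (hW' : IsAffineOpen (j ⁻¹ᵁ W)) (hs : Function.Surjective (j.app W)) :
    (RingHom.ker (j.app W).hom).FG := by
  have h := j.finitePresentation_appLE hW hW' le_rfl
  rw [appLE_eq] at h
  letI := (j.app W).hom.toAlgebra
  haveI : Algebra.FinitePresentation Γ(X, W) Γ(Y, j ⁻¹ᵁ W) := h
  exact Algebra.FinitePresentation.ker_fG_of_surjective (Algebra.ofId Γ(X, W) Γ(Y, j ⁻¹ᵁ W)) hs

end SplitRegLib
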