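import Groth.Agent.SplitRegLib.Ring

/-!
# Regularity near a prime modulo a locally split part
-/

set_option autoImplicit false

noncomputable section

universe u

open KoszDetLib

namespace SplitRegLib

variable {R : Type u} [CommRing R]

theorem genK_list {k : RegImm.Kind} {I : Ideal R} (h : RegImmKindLib.GenK k I) :
    ∃ (c : ℕ) (F : Fin c → R), k.Seq R (List.ofFn F) ∧ I = Ideal.span (Set.range F) := by
  obtain ⟨rs, hrs, rfl⟩ := h
  refine ⟨_, rs.get, by rw [List.ofFn_get]; exact hrs, ?_⟩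
  rw [← CILib.ofList_ofFn, List.ofFn_get]

theorem seq_image {T : Type u} [CommRing T] [Algebra R T] [Module.Flat R T] {k : RegImm.Kind} (hk : k ≠ .regular)
    {c : ℕ} {F : Fin c → R} (h : k.Seq R (List.ofFn F)) : k.Seq T (List.ofFn fun i => algebraMap R T (F i)) := by
  have := RegImmKindLib.seq_map' (R := T) hk h
  rwa [List.map_ofFn] at this

theorem swap_sum {T ι₁ ι₂ : Type*} [CommRing T] [Fintype ι₁] [Fintype ι₂] (w : ι₁ → T) (A : ι₁ → ι₂ → T) (F : ι₂ → T) :
    ∑ i, w i * ∑ m, A i m * F m = ∑ m, (∑ i, w i * A i m) * F m := by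
  simp_rw [Finset.mul_sum, Finset.sum_mul]
  rw [Finset.sum_comm]
  simp only [mul_assoc]

/-- An intersection condition on ideals localises. -/
theorem inter_map {T : Type u} [CommRing T] [Algebra R T] (M : Submonoid R) [IsLocalization M T] (P J I : Ideal R)
    (h : ∀ x ∈ J, x ∈ P * I → x ∈ P * J) : ∀ z ∈ J.map (algebraMap R T),
      z ∈ P.map (algebraMap R T) * I.map (algebraMap R T) → z ∈ P.map (algebraMap R T) * J.map (algebraMap R T) := by
  intro z hz hz'
  rw [← Ideal.map_mul] at hz' ⊢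
  obtain ⟨⟨⟨a, ha⟩, s⟩, e⟩ := (IsLocalization.mem_map_algebraMap_iff M T).1 hz
  obtain ⟨⟨⟨b, hb⟩, s'⟩, e'⟩ := (IsLocalization.mem_map_algebraMap_iff M T).1 hz'
  dsimp only at e e'
  obtain ⟨w, hw⟩ := (IsLocalization.eq_iff_exists M T).1
    (show algebraMap R T (b * s) = algebraMap R T (a * s') by rw [map_mul, map_mul, ← e', ← e]; ring)
  have h4 : (w : R) * (b * s) ∈ P * J := h _
    (by rw [hw]; exact Ideal.mul_mem_left _ _ (Ideal.mul_mem_right _ _ ha))
    (Ideal.mul_mem_left _ _ (Ideal.mul_mem_right _ _ hb))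
  have h5 : z * algebraMap R T ((w * (s' * s) : M) : R) = algebraMap R T (w * (b * s)) := by
    simp only [Submonoid.coe_mul, map_mul, ← e']; ring
  exact (Ideal.mul_unit_mem_iff_mem _ (IsLocalization.map_units T (w * (s' * s)))).1
    (h5.symm ▸ Ideal.mem_map_of_mem _ h4)

variable {S : Type u} [CommRing S]

/-- The heart: on a chart where both ideals are generated by sequences. -/
theorem exists_away_of_gen {k : RegImm.Kind} (hk : k ≠ .regular) (σ : R →+* S) (hσ : Function.Surjective σ)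
    (P : Ideal R) [P.IsPrime] (I : Ideal R) (hJI : RingHom.ker σ ≤ I) (hIP : I ≤ P) (hJ : (RingHom.ker σ).FG)
    (hI : RegImmKindLib.GenK k I) (hJk : k = .koszul → RegImmKindLib.GenK .koszul (RingHom.ker σ))
    (hinj : ∀ x ∈ RingHom.ker σ, x ∈ P * I → x ∈ P * RingHom.ker σ) :
    ∃ h : R, h ∉ P ∧ RegImmKindLib.GenK k ((I.map σ).map (algebraMap S (Localization.Away (σ h)))) := by
  classical
  obtain ⟨c, F, hF, rfl⟩ := genK_list hI
  obtain ⟨t, x, hx⟩ := Submodule.fg_iff_exists_fin_generating_family.1 hJ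
  have hxJ : ∀ l, x l ∈ RingHom.ker σ := fun l => hx.le (Submodule.subset_span ⟨l, rfl⟩)
  choose A hA using fun l => Ideal.mem_span_range_iff_exists_fun.1 (hJI (hxJ l))
  let RP := Localization.AtPrime P
  let κ := IsLocalRing.ResidueField RP
  let ρ := algebraMap R RP
  let q : R →+* κ := (IsLocalRing.residue RP).comp ρ
  have hq : ∀ a, q a = 0 ↔ a ∈ P := fun a =>
    (IsLocalRing.residue_eq_zero_iff _).trans (IsLocalization.AtPrime.to_map_mem_maximal_iff RP P a)
  let v : Fin t ⊕ Fin c → Fin c → κ := Sum.elim (fun l i => q (A l i)) (fun i => Pi.single i 1)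
  obtain ⟨T, hTl, -, hTspan, hT⟩ := exists_linearIndepOn_extension (v := v) (K := κ)
    (linearIndepOn_empty κ v) (Set.empty_subset (Set.range (Sum.inl : Fin t → Fin t ⊕ Fin c)))
  obtain ⟨b, -, hTb, hbspan, hb⟩ := exists_linearIndepOn_extension (v := v) (K := κ) hT (Set.subset_univ T)
  let Lf := {l : Fin t // Sum.inl l ∈ b}
  let Lg := {i : Fin c // Sum.inr i ∈ b}
  let ef := Fintype.equivFin Lf
  let eg := Fintype.equivFin Lg
  let eb : Fin (Fintype.card Lg) ⊕ Fin (Fintype.card Lf) ≃ ↥b :=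
    { toFun := Sum.elim (fun j => ⟨.inr (eg.symm j).1, (eg.symm j).2⟩) (fun i => ⟨.inl (ef.symm i).1, (ef.symm i).2⟩)
      invFun := fun s => match s with
        | ⟨.inl l, h⟩ => .inr (ef ⟨l, h⟩)
        | ⟨.inr i, h⟩ => .inl (eg ⟨i, h⟩)
      left_inv := by rintro (j | i) <;> simp
      right_inv := by rintro ⟨(l | i), h⟩ <;> simp }
  have hcard : Fintype.card ↥b = c := by
    have hspan : ⊤ ≤ Submodule.span κ (Set.range fun s : b => v s.1) := by
      rw [← (Pi.basisFun κ (Fin c)).span_eq, Submodule.span_le]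
      rintro _ ⟨i, rfl⟩
      have h := hbspan ⟨.inr i, trivial, rfl⟩
      rw [Pi.basisFun_apply]
      rwa [Set.image_eq_range] at h
    have := Module.finrank_eq_card_basis (Module.Basis.mk hb.linearIndependent hspan)
    rw [Module.finrank_fin_fun] at this
    exact this.symm
  let e : Fin (Fintype.card Lg) ⊕ Fin (Fintype.card Lf) ≃ Fin c := eb.trans (Fintype.equivFinOfCardEq hcard)
  let g : Fin (Fintype.card Lg) → R := fun j => F (eg.symm j).1
  let f : Fin (Fintype.card Lf) → R := fun i => x (ef.symm i).1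
  let C : Matrix (Fin c) (Fin c) R := fun p => Sum.elim (fun j => (Pi.single (eg.symm j).1 1 : Fin c → R))
    (fun i => A (ef.symm i).1) (e.symm p)
  have hC : C.mulVec F = Sum.elim g f ∘ e.symm := funext fun p => by
    show ∑ i, C p i * F i = Sum.elim g f (e.symm p)
    simp only [C]
    rcases e.symm p with j | i
    · simp [g, Pi.single_apply]
    · exact hA _
  have hdet : C.det ∉ P := by
    rw [← hq, RingHom.map_det]
    suffices h : LinearIndependent κ (q.mapMatrix C).row from
      (isUnit_iff_ne_zero.1 ((Matrix.isUnit_iff_isUnit_det _).1 (Matrix.linearIndependent_rows_iff_isUnit.1 h)))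
    have : (q.mapMatrix C).row = (fun s : b => v s.1) ∘ (Fintype.equivFinOfCardEq hcard).symm := by
      funext p
      have h1 : (Fintype.equivFinOfCardEq hcard).symm p = eb (e.symm p) := by simp [e]
      rw [Function.comp_apply, h1]
      funext i
      show q (C p i) = _
      simp only [C]
      rcases e.symm p with j | l <;> simp [eb, v, Pi.single_apply, apply_ite q]
    rw [this]
    exact hb.linearIndependent.comp _ (Equiv.injective _)
  -- generators near `P`
  let J := RingHom.ker σ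
  have hfJ : Ideal.span (Set.range f) ≤ J := Ideal.span_le.2 (by rintro _ ⟨i, rfl⟩; exact hxJ _)
  have hnak : J.map ρ ≤ (Ideal.span (Set.range f)).map ρ := by
    refine Submodule.le_of_le_smul_of_le_jacobson_bot (I := IsLocalRing.maximalIdeal RP) (hJ.map ρ)
      (IsLocalRing.maximalIdeal_le_jacobson _) ?_
    rw [show J = Ideal.span (Set.range x) from hx.symm, Ideal.map_span, Ideal.span_le]
    rintro _ ⟨_, ⟨l, rfl⟩, rfl⟩
    obtain ⟨w, hw⟩ : ∃ w : Fin (Fintype.card Lf) → κ, ∑ i, w i • v (.inl (ef.symm i).1) = v (.inl l) := by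
      refine (Submodule.mem_span_range_iff_exists_fun κ).1 (Submodule.span_mono ?_ (hTspan ⟨.inl l, ⟨l, rfl⟩, rfl⟩))
      rintro _ ⟨s, hs, rfl⟩
      obtain ⟨l', rfl⟩ := hTl hs
      exact ⟨ef ⟨l', hTb hs⟩, by simp⟩
    choose w' hw' using fun i => IsLocalRing.residue_surjective (w i)
    let y : RP := ρ (x l) - ∑ i, w' i * ρ (f i)
    let a : Fin c → RP := fun m => ρ (A l m) - ∑ i, w' i * ρ (A (ef.symm i).1 m)
    have ha : ∀ m, a m ∈ IsLocalRing.maximalIdeal RP := fun m => by
      rw [← IsLocalRing.residue_eq_zero_iff, map_sub, map_sum, sub_eq_zero]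
      have h := (congrFun hw m).symm
      simp only [Finset.sum_apply, Pi.smul_apply, smul_eq_mul, v, Sum.elim_inl] at h
      exact h.trans (Finset.sum_congr rfl fun i _ => by rw [map_mul, hw']; rfl)
    have hy : y = ∑ m, a m * ρ (F m) := by
      have h1 : ∀ l', ∑ m, ρ (A l' m) * ρ (F m) = ρ (x l') := fun l' => by
        rw [← hA l', map_sum]; exact Finset.sum_congr rfl fun m _ => (map_mul ρ _ _).symm
      calc y = ∑ m, ρ (A l m) * ρ (F m) - ∑ i, w' i * ∑ m, ρ (A (ef.symm i).1 m) * ρ (F m) := by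
            rw [h1]; simp only [h1]; rfl
        _ = _ := by
            simp only [a, sub_mul, Finset.sum_sub_distrib]
            exact congrArg _ (swap_sum w' (fun i m => ρ (A (ef.symm i).1 m)) fun m => ρ (F m))
    have h1 : y ∈ (P * Ideal.span (Set.range F)).map ρ := by
      rw [hy, Ideal.map_mul, Localization.AtPrime.map_eq_maximalIdeal]
      exact sum_mem fun m _ => Ideal.mul_mem_mul (ha m) (Ideal.mem_map_of_mem _ (Ideal.subset_span ⟨m, rfl⟩))
    have h2 : y ∈ J.map ρ := sub_mem (Ideal.mem_map_of_mem _ (hxJ l))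
      (sum_mem fun i _ => Ideal.mul_mem_left _ _ (Ideal.mem_map_of_mem _ (hxJ _)))
    have h3 : y ∈ (P * J).map ρ := by
      obtain ⟨s₁, hs₁, hs₁'⟩ : ∃ (z : R) (u : P.primeCompl), z ∈ P * Ideal.span (Set.range F) ∧ y * ρ u = ρ z := by
        obtain ⟨⟨⟨z, hz⟩, u⟩, h⟩ := (IsLocalization.mem_map_algebraMap_iff P.primeCompl RP).1 h1
        exact ⟨z, u, hz, h⟩
      obtain ⟨⟨⟨z₂, hz₂⟩, u₂⟩, h'⟩ := (IsLocalization.mem_map_algebraMap_iff P.primeCompl RP).1 h2
      obtain ⟨⟨u₃, hu₃⟩, h''⟩ := (IsLocalization.eq_iff_exists P.primeCompl RP).1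
        (show ρ (s₁ * u₂) = ρ (z₂ * hs₁) by rw [map_mul, map_mul, ← hs₁'.2, ← h']; ring)
      have h4 : u₃ * (s₁ * u₂) ∈ P * J := hinj _
        (by rw [h'']; exact Ideal.mul_mem_left _ _ (Ideal.mul_mem_right _ _ hz₂))
        (Ideal.mul_mem_left _ _ (Ideal.mul_mem_right _ _ hs₁'.1))
      have h5 : y * ρ (u₃ * (u₂ * hs₁)) = ρ (u₃ * (s₁ * u₂)) := by
        simp only [map_mul, ← hs₁'.2]; ring
      exact (Ideal.mul_unit_mem_iff_mem _ (IsLocalization.map_units RP
        (⟨u₃, hu₃⟩ * (u₂ * hs₁) : P.primeCompl))).1 (h5.symm ▸ Ideal.mem_map_of_mem ρ h4)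
    rw [show ρ (x l) = (∑ i, w' i * ρ (f i)) + y by simp [y]]
    refine Submodule.add_mem_sup ?_ ?_
    · exact sum_mem fun i _ => Ideal.mul_mem_left _ _ (Ideal.mem_map_of_mem _ (Ideal.subset_span ⟨i, rfl⟩))
    · rw [Ideal.map_mul, Localization.AtPrime.map_eq_maximalIdeal] at h3
      rw [← Ideal.map_span, smul_eq_mul]
      have : J.map ρ = (Ideal.span (Set.range x)).map ρ := congrArg (Ideal.map ρ) hx.symm
      exact this ▸ h3
  obtain ⟨h', hh', hh⟩ : ∃ h' ∉ P, ∀ l, h' * x l ∈ Ideal.span (Set.range f) := by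
    have : ∀ l, ∃ u ∈ P.primeCompl, u * x l ∈ Ideal.span (Set.range f) := fun l => by
      obtain ⟨⟨⟨z, hz⟩, u⟩, h⟩ :=
        (IsLocalization.mem_map_algebraMap_iff P.primeCompl RP).1 (hnak (Ideal.mem_map_of_mem ρ (hxJ l)))
      obtain ⟨w, hw⟩ := (IsLocalization.eq_iff_exists P.primeCompl RP).1 ((map_mul ρ _ _).trans h)
      refine ⟨w * u, mul_mem w.2 u.2, ?_⟩
      rw [mul_assoc, mul_comm (u : R), hw]
      exact Ideal.mul_mem_left _ _ hz
    choose u hu hu' using this
    refine ⟨∏ l, u l, prod_mem (S := P.primeCompl) fun l _ => hu l, fun l => ?_⟩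
    rw [← Finset.prod_erase_mul _ _ (Finset.mem_univ l), mul_assoc]
    exact Ideal.mul_mem_left _ _ (hu' l)
  refine ⟨C.det * h', fun h => (Ideal.IsPrime.mem_or_mem ‹_› h).elim hdet hh', ?_⟩
  let L := Localization.Away (C.det * h')
  let S' := Localization.Away (σ (C.det * h'))
  let ι := algebraMap R L
  obtain ⟨hu1, hu2⟩ := IsUnit.mul_iff.1 (map_mul ι C.det h' ▸ IsLocalization.Away.algebraMap_isUnit (C.det * h'))
  let σ' : L →+* S' := IsLocalization.Away.map L S' σ (C.det * h')
  have hcomp : σ'.comp ι = (algebraMap S S').comp σ := IsLocalization.map_comp _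
  have hσ' : Function.Surjective σ' := by
    intro z
    obtain ⟨⟨s, ⟨_, n, rfl⟩⟩, hs⟩ := IsLocalization.surj (Submonoid.powers (σ (C.det * h'))) z
    obtain ⟨r, rfl⟩ := hσ s
    refine ⟨IsLocalization.mk' L r (⟨_, n, rfl⟩ : Submonoid.powers (C.det * h')), ?_⟩
    have hu : IsUnit (algebraMap S S' (σ (C.det * h') ^ n)) := by
      rw [map_pow]; exact (IsLocalization.Away.algebraMap_isUnit _).pow n
    refine hu.mul_right_cancel ?_
    refine Eq.trans ?_ hs.symm
    have h1 : algebraMap S S' (σ (C.det * h') ^ n) = σ' (ι ((C.det * h') ^ n)) := by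
      rw [← map_pow σ, ← RingHom.comp_apply, ← hcomp]; rfl
    rw [h1, ← map_mul, IsLocalization.mk'_spec]
    exact RingHom.congr_fun hcomp r
  have hker' : RingHom.ker σ' = J.map ι := by
    refine le_antisymm (fun z hz => ?_) (Ideal.map_le_iff_le_comap.2 fun a ha => ?_)
    · obtain ⟨⟨r, s⟩, hs⟩ := IsLocalization.surj (Submonoid.powers (C.det * h')) z
      have h1 : algebraMap S S' (σ r) = 0 := by
        refine (RingHom.congr_fun hcomp r).symm.trans ?_
        show σ' (ι r) = 0
        rw [show ι r = z * ι s from hs.symm, map_mul, RingHom.mem_ker.1 hz, zero_mul]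
      obtain ⟨⟨_, n, rfl⟩, hn⟩ := (IsLocalization.map_eq_zero_iff (Submonoid.powers (σ (C.det * h'))) S' _).1 h1
      have h2 : r * (C.det * h') ^ n ∈ J := by rw [mul_comm r ((C.det * h') ^ n), RingHom.mem_ker, map_mul, map_pow]; exact hn
      have h3 : z * (ι s * ι ((C.det * h') ^ n)) ∈ J.map ι := by
        rw [← mul_assoc, show z * ι s = ι r from hs, ← map_mul]
        exact Ideal.mem_map_of_mem _ h2
      exact (Ideal.mul_unit_mem_iff_mem _ ((IsLocalization.map_units L s).mul (by
        rw [map_pow]; exact (IsLocalization.Away.algebraMap_isUnit _).pow n))).1 h3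
    · show σ' (ι a) = 0
      rw [← RingHom.comp_apply, hcomp, RingHom.comp_apply, RingHom.mem_ker.1 ha, map_zero]
  have hkerf : Ideal.span (Set.range (ι ∘ f)) = RingHom.ker σ' := by
    rw [hker', Set.range_comp, ← Ideal.map_span]
    refine le_antisymm (Ideal.map_mono hfJ) ?_
    rw [show J = Ideal.span (Set.range x) from hx.symm, Ideal.map_span, Ideal.span_le]
    rintro _ ⟨_, ⟨l, rfl⟩, rfl⟩
    exact (Ideal.unit_mul_mem_iff_mem _ hu2).1 (map_mul ι h' (x l) ▸ Ideal.mem_map_of_mem ι (hh l))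
  obtain ⟨N, hCN, hNC⟩ : ∃ N, ι.mapMatrix C * N = 1 ∧ N * ι.mapMatrix C = 1 := by
    have hu : IsUnit (ι.mapMatrix C) := (Matrix.isUnit_iff_isUnit_det _).2 (by rw [← RingHom.map_det]; exact hu1)
    obtain ⟨u, hu⟩ := hu
    exact ⟨↑u⁻¹, by rw [← hu, Units.mul_inv], by rw [← hu, Units.inv_mul]⟩
  have hmul : (ι.mapMatrix C).mulVec (ι ∘ F) = Sum.elim (ι ∘ g) (ι ∘ f) ∘ e.symm := funext fun p => by
    refine (RingHom.map_mulVec ι C F p).symm.trans ((congrArg ι (congrFun hC p)).trans ?_)
    show ι (Sum.elim g f (e.symm p)) = _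
    simp only [Function.comp_apply]
    cases e.symm p <;> rfl
  have hkz : k = .koszul → IsExactK (ι ∘ f) := by
    intro hk'
    obtain ⟨r', f', hf', hJ'⟩ := genK_list (hJk hk')
    have hf'L : IsExactK (ι ∘ f') := (get_seq _ (seq_image (T := L) (k := .koszul) (by decide) hf')).1 rfl
    have hsame : Ideal.span (Set.range (ι ∘ f')) = Ideal.span (Set.range (ι ∘ f)) := by
      rw [hkerf, hker', Set.range_comp, ← Ideal.map_span, ← hJ']
    have hle : r' ≤ Fintype.card Lf := by
      refine KRLib.length_le_of_isExactK hf'L hsame fun htop => ?_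
      have hmap : Ideal.span (Set.range (ι ∘ f')) ≤ P.map ι := by
        rw [Set.range_comp, ← Ideal.map_span, ← hJ']
        exact Ideal.map_mono (hJI.trans hIP)
      have hdisj : Disjoint (Submonoid.powers (C.det * h') : Set R) P := by
        rw [Set.disjoint_left]
        rintro _ ⟨n, rfl⟩ hn
        exact (Ideal.IsPrime.mem_or_mem ‹_› (Ideal.IsPrime.mem_of_pow_mem ‹_› n hn)).elim hdet hh'
      exact (IsLocalization.isPrime_of_isPrime_disjoint (Submonoid.powers (C.det * h')) L P ‹_› hdisj).ne_top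
        (top_le_iff.1 (htop ▸ hmap))
    choose B hB using fun j => Ideal.mem_span_range_iff_exists_fun.1 (hJI (hJ'.ge (Ideal.subset_span ⟨j, rfl⟩)) :
      f' j ∈ Ideal.span (Set.range F))
    choose D hD using fun i => Ideal.mem_span_range_iff_exists_fun.1 (hJ'.le (hxJ (ef.symm i).1))
    have hge : Fintype.card Lf ≤ r' := by
      let Mc : Matrix (Fin (Fintype.card Lf)) (Fin r') κ := fun i j => q (D i j)
      refine le_of_fin_injective κ (Matrix.vecMulLinear Mc) ?_
      refine (injective_iff_map_eq_zero _).2 fun w hw => ?_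
      have hli : LinearIndependent κ (fun i => v (.inl (ef.symm i).1)) :=
        hb.linearIndependent.comp (fun i => (⟨.inl (ef.symm i).1, (ef.symm i).2⟩ : b))
          (fun i i' h => ef.symm.injective (Subtype.ext (Sum.inl_injective (congrArg Subtype.val h))))
      refine funext ((Fintype.linearIndependent_iff.1 hli) w (funext fun m => ?_))
      have key : ∀ i, q (A (ef.symm i).1 m) = ∑ j, q (D i j) * q (B j m) := fun i => by
        have h1 := coeff_mem (seq_quasi hk F hF) (fun m => A (ef.symm i).1 m - ∑ j, D i j * B j m) (by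
          simp only [sub_mul, Finset.sum_sub_distrib, Finset.sum_mul]
          rw [Finset.sum_comm]
          simp only [mul_assoc, ← Finset.mul_sum, hA, hB, hD, sub_self]) m
        have h2 := (hq _).2 (hIP h1)
        rw [map_sub, map_sum, sub_eq_zero] at h2
        rw [h2]; simp
      have hw' : ∀ j, ∑ i, w i * q (D i j) = 0 := fun j => congrFun hw j
      simp only [Finset.sum_apply, Pi.smul_apply, smul_eq_mul, v, Sum.elim_inl, key, Pi.zero_apply]
      calc ∑ i, w i * ∑ j, q (D i j) * q (B j m) = ∑ j, (∑ i, w i * q (D i j)) * q (B j m) := by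
            simp_rw [Finset.mul_sum, Finset.sum_mul]
            rw [Finset.sum_comm]
            simp only [mul_assoc]
        _ = 0 := by simp [hw']
    obtain rfl : r' = Fintype.card Lf := le_antisymm hle hge
    exact KRLib.isExactK_of_length_eq hf'L hsame
  have hgen := genK_quot hk σ' hσ' (ι ∘ F) (seq_image (T := L) hk hF) (ι ∘ g) (ι ∘ f) e (ι.mapMatrix C) N hCN hNC
    hmul hkerf hkz
  rwa [Set.range_comp, ← Ideal.map_span, Ideal.map_map, hcomp, ← Ideal.map_map] at hgen

/-- The local statement. -/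
theorem exists_away {k : RegImm.Kind} (hk : k ≠ .regular) (σ : R →+* S) (hσ : Function.Surjective σ)
    (P : Ideal R) [P.IsPrime] (I : Ideal R) (hJI : RingHom.ker σ ≤ I) (hIP : I ≤ P) (hJ : (RingHom.ker σ).FG)
    (hI : RegImmKindLib.LocK k I) (hJk : k = .koszul → RegImmKindLib.LocK .koszul (RingHom.ker σ))
    (hinj : ∀ x ∈ RingHom.ker σ, x ∈ P * I → x ∈ P * RingHom.ker σ) :
    ∃ h : R, h ∉ P ∧ RegImmKindLib.GenK k ((I.map σ).map (algebraMap S (Localization.Away (σ h)))) := by
  obtain ⟨u, hu, hgI⟩ := hI P ‹_› hIP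
  obtain ⟨v, hv, hgJ⟩ : ∃ v ∉ P, k = .koszul →
      RegImmKindLib.GenK .koszul ((RingHom.ker σ).map (algebraMap R (Localization.Away v))) := by
    by_cases h : k = .koszul
    · obtain ⟨v, hv, hg⟩ := hJk h P ‹_› (hJI.trans hIP)
      exact ⟨v, hv, fun _ => hg⟩
    · exact ⟨1, fun h1 => Ideal.IsPrime.ne_top ‹_› ((Ideal.eq_top_iff_one _).2 h1), fun h' => absurd h' h⟩
  let L := Localization.Away (u * v)
  let S' := Localization.Away (σ (u * v))
  let ι := algebraMap R L
  obtain ⟨hu1, hu2⟩ := IsUnit.mul_iff.1 (map_mul ι u v ▸ IsLocalization.Away.algebraMap_isUnit (u * v))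
  let σ' : L →+* S' := IsLocalization.Away.map L S' σ (u * v)
  have hcomp : σ'.comp ι = (algebraMap S S').comp σ := IsLocalization.map_comp _
  have huv : u * v ∉ P := fun h => (Ideal.IsPrime.mem_or_mem ‹_› h).elim hu hv
  have hdisj : Disjoint (Submonoid.powers (u * v) : Set R) P := by
    rw [Set.disjoint_left]
    rintro _ ⟨n, rfl⟩ hn
    exact huv (Ideal.IsPrime.mem_of_pow_mem ‹_› n hn)
  haveI := IsLocalization.isPrime_of_isPrime_disjoint (Submonoid.powers (u * v)) L P ‹_› hdisj
  have hσ' : Function.Surjective σ' := by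
    intro z
    obtain ⟨⟨s, ⟨_, n, rfl⟩⟩, hs⟩ := IsLocalization.surj (Submonoid.powers (σ (u * v))) z
    obtain ⟨r, rfl⟩ := hσ s
    refine ⟨IsLocalization.mk' L r (⟨_, n, rfl⟩ : Submonoid.powers (u * v)), ?_⟩
    have hn : IsUnit (algebraMap S S' (σ (u * v) ^ n)) := by
      rw [map_pow]; exact (IsLocalization.Away.algebraMap_isUnit _).pow n
    refine hn.mul_right_cancel (Eq.trans ?_ hs.symm)
    have h1 : algebraMap S S' (σ (u * v) ^ n) = σ' (ι ((u * v) ^ n)) := by
      rw [← map_pow σ, ← RingHom.comp_apply, ← hcomp]; rfl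
    rw [h1, ← map_mul, IsLocalization.mk'_spec]
    exact RingHom.congr_fun hcomp r
  have hker' : RingHom.ker σ' = (RingHom.ker σ).map ι := by
    refine le_antisymm (fun z hz => ?_) (Ideal.map_le_iff_le_comap.2 fun a ha => ?_)
    · obtain ⟨⟨r, s⟩, hs⟩ := IsLocalization.surj (Submonoid.powers (u * v)) z
      have h1 : algebraMap S S' (σ r) = 0 := by
        refine (RingHom.congr_fun hcomp r).symm.trans ?_
        show σ' (ι r) = 0
        rw [show ι r = z * ι s from hs.symm, map_mul, RingHom.mem_ker.1 hz, zero_mul]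
      obtain ⟨⟨_, n, rfl⟩, hn⟩ := (IsLocalization.map_eq_zero_iff (Submonoid.powers (σ (u * v))) S' _).1 h1
      have h2 : r * (u * v) ^ n ∈ RingHom.ker σ := by rw [mul_comm r ((u * v) ^ n), RingHom.mem_ker, map_mul, map_pow]; exact hn
      have h3 : z * (ι s * ι ((u * v) ^ n)) ∈ (RingHom.ker σ).map ι := by
        rw [← mul_assoc, show z * ι s = ι r from hs, ← map_mul]
        exact Ideal.mem_map_of_mem _ h2
      exact (Ideal.mul_unit_mem_iff_mem _ ((IsLocalization.map_units L s).mul (by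
        rw [map_pow]; exact (IsLocalization.Away.algebraMap_isUnit _).pow n))).1 h3
    · show σ' (ι a) = 0
      rw [← RingHom.comp_apply, hcomp, RingHom.comp_apply, RingHom.mem_ker.1 ha, map_zero]
  obtain ⟨w, hw, hg⟩ := exists_away_of_gen (R := L) (S := S') hk σ' hσ' (P.map ι) (I.map ι)
    (hker'.le.trans (Ideal.map_mono hJI)) (Ideal.map_mono hIP) (hker' ▸ hJ.map ι)
    (RegImmKindLib.GenK.map_of_isUnit hk hu1 hgI)
    (fun h => hker' ▸ RegImmKindLib.GenK.map_of_isUnit (by decide) hu2 (hgJ h))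
    (by rw [hker']; exact inter_map (Submonoid.powers (u * v)) P (RingHom.ker σ) I hinj)
  obtain ⟨⟨w₀, ⟨_, n, rfl⟩⟩, hw₀⟩ := IsLocalization.surj (Submonoid.powers (u * v)) w
  refine ⟨u * v * w₀, fun h => (Ideal.IsPrime.mem_or_mem ‹_› h).elim huv fun h' => hw ?_, ?_⟩
  · have h1 : w * ι ((u * v) ^ n) ∈ P.map ι := hw₀ ▸ Ideal.mem_map_of_mem ι h'
    exact (Ideal.mul_unit_mem_iff_mem _ (IsLocalization.map_units L
      (⟨(u * v) ^ n, n, rfl⟩ : Submonoid.powers (u * v)))).1 h1
  · let T := Localization.Away (σ (u * v * w₀))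
    obtain ⟨ht1, ht2⟩ : IsUnit (algebraMap S T (σ (u * v))) ∧ IsUnit (algebraMap S T (σ w₀)) := by
      rw [← IsUnit.mul_iff, ← map_mul, ← map_mul]; exact IsLocalization.Away.algebraMap_isUnit _
    letI : Algebra S' T := (IsLocalization.Away.lift (σ (u * v)) ht1).toAlgebra
    haveI : IsScalarTower S S' T :=
      IsScalarTower.of_algebraMap_eq fun a => (IsLocalization.Away.lift_eq (σ (u * v)) ht1 a).symm
    haveI : Module.Flat S' T :=
      (Module.flat_iff_of_isLocalization S' (Submonoid.powers (σ (u * v))) T).mpr inferInstance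
    have hIσ : (I.map ι).map σ' = (I.map σ).map (algebraMap S S') := by rw [Ideal.map_map, hcomp, ← Ideal.map_map]
    rw [hIσ] at hg
    have hw1 : IsUnit (algebraMap S' T (σ' w)) := by
      have h1 := congrArg (fun z => algebraMap S' T (σ' z)) hw₀
      simp only [map_mul] at h1
      have h2 : algebraMap S' T (σ' (ι w₀)) = algebraMap S T (σ w₀) := by
        rw [← RingHom.comp_apply σ', hcomp, RingHom.comp_apply, ← IsScalarTower.algebraMap_apply]
      exact isUnit_of_mul_isUnit_left (h1.symm ▸ h2.symm ▸ ht2)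
    have := RegImmKindLib.GenK.map_of_isUnit (R := T) hk hw1 hg
    rwa [Ideal.map_map, ← IsScalarTower.algebraMap_eq] at this

end SplitRegLib
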