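import Groth.Agent.RegImmKindLib.LocK
import Groth.Agent.KRLib.Seq
import Groth.Agent.RegImmKindLib.H1Descent

/-!
# Kinds of regularity passing to the quotient by part of a generating sequence
-/

set_option autoImplicit false

noncomputable section

universe u

open MvPolynomial KoszDetLib

namespace SplitRegLib

variable {R S : Type u} [CommRing R] [CommRing S]

theorem get_seq {k : RegImm.Kind} {c : ℕ} (F : Fin c → R) (h : k.Seq R (List.ofFn F)) :
    (k = .koszul → IsExactK F) ∧ (k = .h1 → CAlgX.IsH1Regular F) ∧ (k = .quasi → CAlgX.IsQuasiRegular F) := by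
  refine ⟨?_, ?_, ?_⟩ <;> rintro rfl
  · exact isExactK_of_isKoszulRegularSeq F h
  · exact RegImmKindLib.seq_congr_get _ F (fun f => CAlgX.IsH1Regular f) (List.ofFn_get _) h
  · exact RegImmKindLib.seq_congr_get _ F (fun f => CAlgX.IsQuasiRegular f) (List.ofFn_get _) h

theorem seq_quasi {k : RegImm.Kind} (hk : k ≠ .regular) {c : ℕ} (F : Fin c → R) (h : k.Seq R (List.ofFn F)) :
    CAlgX.IsQuasiRegular F := by
  refine (get_seq F (k := .quasi) ?_).2.2 rfl
  cases k with
  | regular => exact absurd rfl hk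
  | koszul => exact RegImmKindLib.seq_quasi_of_h1 (RegImmKindLib.seq_h1_of_koszul h)
  | h1 => exact RegImmKindLib.seq_quasi_of_h1 h
  | quasi => exact h

/-- The coefficients of a relation lie in the ideal. -/
theorem coeff_mem {c : ℕ} {F : Fin c → R} (hF : CAlgX.IsQuasiRegular F) (a : Fin c → R) (h : ∑ i, a i * F i = 0)
    (i : Fin c) : a i ∈ Ideal.span (Set.range F) := by
  classical
  have h1 := hF 1 (∑ j, C (a j) * X j) (IsHomogeneous.sum _ _ _ fun j _ => (isHomogeneous_X R j).C_mul _)
    (by simp [map_sum, h]) (Finsupp.single i 1)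
  simpa [coeff_sum, coeff_C_mul, coeff_X', Finsupp.single_left_inj] using h1

theorem pow_eval {c : ℕ} (G : Fin c → R) : ∀ (n : ℕ) (x : R), x ∈ Ideal.span (Set.range G) ^ n →
    ∃ P : MvPolynomial (Fin c) R, P.IsHomogeneous n ∧ eval G P = x
  | 0, x, _ => ⟨C x, isHomogeneous_C _ _, eval_C x⟩
  | n + 1, x, hx => by
    rw [pow_succ] at hx
    refine Submodule.mul_induction_on hx (fun a ha b hb => ?_) ?_
    · obtain ⟨P, hP, rfl⟩ := pow_eval G n a ha
      obtain ⟨l, rfl⟩ := Ideal.mem_span_range_iff_exists_fun.1 hb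
      refine ⟨P * ∑ i, C (l i) * X i, hP.mul (IsHomogeneous.sum _ _ _ fun i _ => (isHomogeneous_X R i).C_mul _), ?_⟩
      simp [map_sum]
    · rintro a b ⟨P, hP, rfl⟩ ⟨Q, hQ, rfl⟩
      exact ⟨P + Q, hP.add hQ, map_add _ _ _⟩

/-- Invariance of quasi-regularity under an invertible matrix. -/
theorem quasi_of_matrix {c : ℕ} {F G : Fin c → R} (hF : CAlgX.IsQuasiRegular F) (M N : Matrix (Fin c) (Fin c) R)
    (hG : M.mulVec F = G) (hMN : M * N = 1) (hspan : Ideal.span (Set.range G) = Ideal.span (Set.range F)) :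
    CAlgX.IsQuasiRegular G := by
  classical
  intro n P hP hev d
  let φ : MvPolynomial (Fin c) R →ₐ[R] MvPolynomial (Fin c) R := aeval fun i => ∑ j, C (M i j) * X j
  let ψ : MvPolynomial (Fin c) R →ₐ[R] MvPolynomial (Fin c) R := aeval fun i => ∑ j, C (N i j) * X j
  have hcomp : ψ.comp φ = AlgHom.id R _ := algHom_ext fun i => by
    simp [φ, ψ, Finset.mul_sum, ← mul_assoc]
    simp only [← map_mul]
    rw [Finset.sum_comm]
    simp only [← Finset.sum_mul, ← map_sum, ← Matrix.mul_apply, hMN, Matrix.one_apply]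
    simp [apply_ite C, ite_mul]
  have hh : (φ P).IsHomogeneous n := by
    simpa [φ, one_mul] using IsHomogeneous.aeval hP (fun i => ∑ j, C (M i j) * X j)
      (fun i => IsHomogeneous.sum _ _ _ fun j _ => (isHomogeneous_X R j).C_mul _)
  have he : eval F (φ P) = eval G P := by
    have : (aeval F).comp φ = aeval G := algHom_ext fun i => by
      simp [φ, ← hG, Matrix.mulVec, dotProduct]
    simpa [aeval_eq_eval] using congrArg (fun χ => χ P) this
  have h1 : φ P ∈ (Ideal.span (Set.range F)).map (C : R →+* MvPolynomial (Fin c) R) :=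
    mem_map_C_iff.2 (hF n _ hh (he ▸ hspan ▸ hev))
  have h2 : ψ (φ P) ∈ (Ideal.span (Set.range F)).map (C : R →+* MvPolynomial (Fin c) R) := by
    have h3 := Ideal.mem_map_of_mem ψ.toRingHom h1
    rw [Ideal.map_map] at h3
    rwa [show ψ.toRingHom.comp C = (C : R →+* MvPolynomial (Fin c) R) from RingHom.ext fun x => by simp [ψ]] at h3
  rw [← AlgHom.comp_apply, hcomp, AlgHom.id_apply] at h2
  rw [hspan]
  exact mem_map_C_iff.1 h2 d

/-- Quasi-regularity modulo part of the sequence. -/
theorem quasi_quot (σ : R →+* S) (hσ : Function.Surjective σ) {c m r : ℕ} (g : Fin m → R) (f : Fin r → R)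
    (e : Fin m ⊕ Fin r ≃ Fin c) (hG : CAlgX.IsQuasiRegular (Sum.elim g f ∘ e.symm))
    (hker : Ideal.span (Set.range f) = RingHom.ker σ) : CAlgX.IsQuasiRegular (σ ∘ g) := by
  classical
  let G := Sum.elim g f ∘ e.symm
  let I := Ideal.span (Set.range G)
  let J := Ideal.span (Set.range f)
  have hGl : ∀ j, G (e (.inl j)) = g j := fun j => by simp [G]
  have hGr : ∀ i, G (e (.inr i)) = f i := fun i => by simp [G]
  have hJI : J ≤ I := Ideal.span_le.2 (by rintro _ ⟨i, rfl⟩; exact Ideal.subset_span ⟨_, hGr i⟩)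
  have hW : ∀ (k : ℕ) (x : R), x ∈ J * I ^ k → ∃ Q : MvPolynomial (Fin c) R, Q.IsHomogeneous (k + 1) ∧
      eval G Q = x ∧ ∀ d ∈ Q.support, ∃ i, d (e (.inr i)) ≠ 0 := by
    intro k x hx
    refine Submodule.mul_induction_on hx (fun a ha b hb => ?_) ?_
    · obtain ⟨H, hH, rfl⟩ := pow_eval G k b hb
      obtain ⟨l, rfl⟩ := Ideal.mem_span_range_iff_exists_fun.1 ha
      refine ⟨∑ i, C (l i) * (X (e (.inr i)) * H), IsHomogeneous.sum _ _ _ fun i _ => ?_, ?_, fun d hd => ?_⟩
      · rw [add_comm]; exact ((isHomogeneous_X R _).mul hH).C_mul _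
      · simp [map_sum, Finset.sum_mul, hGr, mul_assoc]
      · by_contra hc
        push Not at hc
        refine mem_support_iff.1 hd ?_
        rw [coeff_sum]
        refine Finset.sum_eq_zero fun i _ => ?_
        rw [coeff_C_mul, coeff_X_mul', if_neg (by simp [hc i]), mul_zero]
    · rintro a b ⟨P, hP, rfl, hPd⟩ ⟨Q, hQ, rfl, hQd⟩
      refine ⟨P + Q, hP.add hQ, map_add _ _ _, fun d hd => ?_⟩
      rcases Finset.mem_union.1 (support_add hd) with h | h
      exacts [hPd d h, hQd d h]
  have step : ∀ (k : ℕ) (x : R), x ∈ J * I ^ k → x ∈ I ^ (k + 2) → x ∈ J * I ^ (k + 1) := by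
    intro k x hx hx'
    obtain ⟨Q, hQ, rfl, hQd⟩ := hW k x hx
    have hc := hG (k + 1) Q hQ hx'
    rw [eval_eq]
    refine sum_mem fun d hd => ?_
    obtain ⟨i, hi⟩ := hQd d hd
    have hdeg : d.degree = k + 1 := hQ.degree_eq_sum_deg_support hd ▸ rfl
    obtain ⟨d', rfl⟩ : ∃ d', d = d' + Finsupp.single (e (.inr i)) 1 :=
      ⟨d - Finsupp.single (e (.inr i)) 1, by
        rw [tsub_add_cancel_of_le]; simpa [Finsupp.single_le_iff, Nat.one_le_iff_ne_zero] using hi⟩
    rw [map_add, Finsupp.degree_single] at hdeg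
    have hprod : ∀ d : Fin c →₀ ℕ, (∏ t ∈ d.support, G t ^ d t) = eval G (monomial d 1) := fun d => by
      rw [eval_monomial, one_mul]; rfl
    rw [hprod, ← one_mul (1 : R), ← monomial_mul, map_mul]
    rw [show Q.coeff (d' + Finsupp.single (e (.inr i)) 1) * (eval G (monomial d' 1) *
        eval G (monomial (Finsupp.single (e (.inr i)) 1) 1)) =
      f i * (eval G (monomial d' 1) * Q.coeff (d' + Finsupp.single (e (.inr i)) 1)) by
        simp [eval_monomial, hGr]; ring, pow_succ]
    refine Ideal.mul_mem_mul (Ideal.subset_span (Set.mem_range_self i)) (Ideal.mul_mem_mul ?_ (hc _))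
    have hk : k = d'.degree := by omega
    rw [hk, eval_monomial, one_mul, Finsupp.degree_apply, ← Finset.prod_pow_eq_pow_sum]
    exact Ideal.prod_mem_prod fun t _ => Ideal.pow_mem_pow (Ideal.subset_span (Set.mem_range_self t)) _
  have AR : ∀ (k : ℕ) (x : R), x ∈ J → x ∈ I ^ (k + 1) → x ∈ J * I ^ k := by
    intro k
    induction k with
    | zero => intro x hx _; simpa using hx
    | succ k ih =>
      intro x hx hx'
      exact step k x (ih x hx (Ideal.pow_le_pow_right (by omega) hx')) hx'
  have hIσ : I.map σ = Ideal.span (Set.range (σ ∘ g)) := by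
    refine le_antisymm (Ideal.map_le_iff_le_comap.2 (Ideal.span_le.2 ?_)) (Ideal.span_le.2 ?_)
    · rintro _ ⟨t, rfl⟩
      obtain ⟨(j | i), rfl⟩ := e.surjective t
      · exact Ideal.subset_span ⟨j, by simp [G]⟩
      · show σ (G (e (.inr i))) ∈ Ideal.span (Set.range (σ ∘ g))
        rw [hGr, show σ (f i) = 0 from hker.le (Ideal.subset_span ⟨i, rfl⟩)]
        exact zero_mem _
    · rintro _ ⟨j, rfl⟩
      exact Ideal.mem_map_of_mem σ (Ideal.subset_span ⟨_, hGl j⟩)
  intro n P hP hev d
  obtain ⟨P₀, rfl⟩ := MvPolynomial.map_surjective σ hσ P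
  by_cases hd : d.degree = n
  swap
  · by_cases h0 : (MvPolynomial.map σ P₀).coeff d = 0
    · rw [h0]; exact zero_mem _
    · exact absurd (hP.degree_eq_sum_deg_support (mem_support_iff.2 h0) ▸ rfl) hd
  let P' := homogeneousComponent n P₀
  have hP' : MvPolynomial.map σ P' = MvPolynomial.map σ P₀ := by
    ext t
    rw [coeff_map, coeff_homogeneousComponent]
    split_ifs with h
    · rw [coeff_map]
    · rw [map_zero]
      by_contra h0
      exact h (hP.degree_eq_sum_deg_support (mem_support_iff.2 (Ne.symm h0)) ▸ rfl)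
  rw [← hP'] at hev ⊢
  rw [coeff_map, ← hIσ]
  let ren : MvPolynomial (Fin m) R →ₐ[R] MvPolynomial (Fin c) R := rename fun j => e (.inl j)
  have hinj : Function.Injective fun j : Fin m => e (.inl j) := e.injective.comp Sum.inl_injective
  have hren : eval G (ren P') = eval g P' := by
    rw [eval_rename]; exact congrArg (fun v => eval v P') (funext hGl)
  rw [← hIσ, ← Ideal.map_pow, eval_map, ← eval₂_comp, Ideal.mem_map_iff_of_surjective σ hσ] at hev
  obtain ⟨w, hw, hw'⟩ := hev
  have hy : w - eval g P' ∈ J := hker.ge (RingHom.mem_ker.2 (by rw [map_sub, hw', sub_self]))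
  have hn : (ren P').IsHomogeneous n := (homogeneousComponent_isHomogeneous n P₀).rename_isHomogeneous
  have hgn : eval g P' ∈ I ^ n := by
    rw [← hren, eval_eq]
    refine sum_mem fun t ht => Ideal.mul_mem_left _ _ ?_
    rw [show n = ∑ i ∈ t.support, t i from hn.degree_eq_sum_deg_support ht, ← Finset.prod_pow_eq_pow_sum]
    exact Ideal.prod_mem_prod fun s _ => Ideal.pow_mem_pow (Ideal.subset_span (Set.mem_range_self s)) _
  refine Ideal.mem_map_of_mem σ ?_
  rcases n with _ | n
  · have hd0 : d = 0 := (Finsupp.degree_eq_zero_iff d).1 hd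
    subst hd0
    have hC : P' = C (P₀.coeff 0) := homogeneousComponent_zero P₀
    rw [hC, eval_C] at hy
    rw [hC, coeff_C, if_pos rfl, show P₀.coeff 0 = w - (w - P₀.coeff 0) by ring]
    exact sub_mem (by simpa using hw) (hJI hy)
  · obtain ⟨Q, hQ, hQe, hQd⟩ := hW n _ (AR n _ hy (sub_mem (Ideal.pow_le_pow_right (by omega) hw) hgn))
    have h1 := hG (n + 1) (ren P' + Q) (hn.add hQ)
      (by show eval G (ren P' + Q) ∈ I ^ _; rw [map_add, hren, hQe, add_sub_cancel]; exact hw)
      (d.mapDomain fun j => e (.inl j))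
    rw [coeff_add, coeff_rename_mapDomain _ hinj] at h1
    have h2 : Q.coeff (d.mapDomain fun j => e (.inl j)) = 0 := by
      by_contra h0
      obtain ⟨i, hi⟩ := hQd _ (mem_support_iff.2 h0)
      exact hi (Finsupp.mapDomain_notin_range _ _ (by rintro ⟨j, hj⟩; simp at hj))
    rwa [h2, add_zero] at h1

/-- `H₁`-regularity modulo part of the sequence. -/
theorem h1_quot (σ : R →+* S) (hσ : Function.Surjective σ) {c m r : ℕ} (g : Fin m → R) (f : Fin r → R)
    (e : Fin m ⊕ Fin r ≃ Fin c) (hG : CAlgX.IsH1Regular (Sum.elim g f ∘ e.symm))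
    (hker : Ideal.span (Set.range f) = RingHom.ker σ) : CAlgX.IsH1Regular (σ ∘ g) := by
  classical
  intro b hb
  choose b' hb' using fun j => hσ (b j)
  have h1 : ∑ j, b' j * g j ∈ RingHom.ker σ := by
    rw [RingHom.mem_ker, map_sum, ← hb]
    simp [hb']
  obtain ⟨a, ha⟩ := Ideal.mem_span_range_iff_exists_fun.1 (hker.ge h1)
  have h2 := hG (Sum.elim b' (fun i => -a i) ∘ e.symm) (by
    rw [← e.sum_comp, Fintype.sum_sum_type]
    simp [ha])
  let π : (Fin c → R) → Fin m → S := fun v j => σ (v (e (.inl j)))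
  rw [show b = π (Sum.elim b' (fun i => -a i) ∘ e.symm) from funext fun j => by simp [π, hb']]
  clear hb h1 ha
  generalize Sum.elim b' (fun i => -a i) ∘ e.symm = v at h2
  induction h2 using Submodule.span_induction with
  | mem v hv =>
    obtain ⟨p, q, rfl⟩ := hv
    have h : ∀ i, σ (f i) = 0 := fun i => hker.le (Ideal.subset_span (Set.mem_range_self i))
    obtain ⟨(p | p), rfl⟩ := e.surjective p <;> obtain ⟨(q | q), rfl⟩ := e.surjective q
    · refine Submodule.subset_span ⟨p, q, funext fun j => ?_⟩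
      simp [π, Pi.single_apply, apply_ite σ]
    all_goals
      convert Submodule.zero_mem (Submodule.span S _)
      funext j
      simp [π, Pi.single_apply, apply_ite σ, h]
  | zero => convert Submodule.zero_mem (Submodule.span S _); funext j; simp [π]
  | add v w _ _ hv hw => convert Submodule.add_mem _ hv hw; funext j; simp [π]
  | smul x v _ hv => convert Submodule.smul_mem _ (σ x) hv; funext j; simp [π]

/-- The ideal modulo part of a transformed generating sequence keeps its kind. -/
theorem genK_quot {k : RegImm.Kind} (hk : k ≠ .regular) (σ : R →+* S) (hσ : Function.Surjective σ) {c m r : ℕ}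
    (F : Fin c → R) (hF : k.Seq R (List.ofFn F)) (g : Fin m → R) (f : Fin r → R) (e : Fin m ⊕ Fin r ≃ Fin c)
    (M N : Matrix (Fin c) (Fin c) R) (hMN : M * N = 1) (hNM : N * M = 1)
    (hMF : M.mulVec F = Sum.elim g f ∘ e.symm) (hker : Ideal.span (Set.range f) = RingHom.ker σ)
    (hf : k = .koszul → IsExactK f) :
    RegImmKindLib.GenK k ((Ideal.span (Set.range F)).map σ) := by
  classical
  let G := Sum.elim g f ∘ e.symm
  have hNG : N.mulVec G = F := by
    show N.mulVec (Sum.elim g f ∘ e.symm) = F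
    rw [← hMF, Matrix.mulVec_mulVec, hNM, Matrix.one_mulVec]
  have le : ∀ {A : Matrix (Fin c) (Fin c) R} {u v : Fin c → R}, A.mulVec u = v →
      Ideal.span (Set.range v) ≤ Ideal.span (Set.range u) := by
    rintro A u v rfl
    rw [Ideal.span_le]
    rintro _ ⟨i, rfl⟩
    show ∑ j, A i j * u j ∈ Ideal.span (Set.range u)
    exact sum_mem fun j _ => Ideal.mul_mem_left _ _ (Ideal.subset_span (Set.mem_range_self j))
  have hspan : Ideal.span (Set.range G) = Ideal.span (Set.range F) := le_antisymm (le hMF) (le hNG)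
  have hrange : Set.range G = Set.range g ∪ Set.range f := by
    rw [e.symm.surjective.range_comp, Set.Sum.elim_range]
  have himg : (Ideal.span (Set.range F)).map σ = Ideal.span (Set.range (σ ∘ g)) := by
    rw [← hspan, hrange, Ideal.span_union, Ideal.map_sup, hker, (Ideal.map_eq_bot_iff_le_ker _).2 le_rfl, sup_bot_eq,
      Ideal.map_span, Set.range_comp]
  refine ⟨List.ofFn (σ ∘ g), ?_, himg.trans (CILib.ofList_ofFn _).symm⟩
  obtain ⟨h1, h2, h3⟩ := get_seq F hF
  cases k with
  | regular => exact absurd rfl hk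
  | koszul =>
    have hc : r + m = c := by
      have := Fintype.card_congr e
      simp at this
      omega
    have hA : IsExactK (KRLib.app g f) := by
      let A : Fin c → R := KRLib.app g f ∘ Fin.cast hc.symm
      have hAs : Ideal.span (Set.range F) = Ideal.span (Set.range A) := by
        show _ = Ideal.span (Set.range (KRLib.app g f ∘ finCongr hc.symm))
        rw [(finCongr hc.symm).surjective.range_comp, KRLib.range_app, ← hrange, hspan]
      exact KRLib.isExactK_cast (KRLib.isExactK_of_length_eq (h1 rfl) hAs) hc.symm (fun i => rfl)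
    exact KRLib.isKoszulRegularSeq_of_isExactK _ (KRLib.isExactK_of_app σ f (hf rfl) hker hσ g hA)
  | h1 =>
    exact RegImmKindLib.seq_congr_get (σ ∘ g) _ (fun f => CAlgX.IsH1Regular f) (List.ofFn_get _).symm
      (h1_quot σ hσ g f e (RegImmKindLib.isH1Regular_of_matrix (h2 rfl) M N hMF hNG hMN) hker)
  | quasi =>
    exact RegImmKindLib.seq_congr_get (σ ∘ g) _ (fun f => CAlgX.IsQuasiRegular f) (List.ofFn_get _).symm
      (quasi_quot σ hσ g f e (quasi_of_matrix (h3 rfl) M N hMF hMN hspan) hker)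

end SplitRegLib
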